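import Cfsg.Agent.Lib.Helper11.Out22.Data

set_option autoImplicit false
set_option maxRecDepth 100000

namespace Cfsg.Agent.Lib.Helper11.Out22

open Cfsg.Agent.Lib.Helper11 Cfsg.Agent.Lib.Helper11.SylEA Cfsg.Agent.Lib.Helper11.Out

set_option maxHeartbeats 0

theorem netsOK : ntlX.all (fun net => net.all (stOK (2 ^ (2 ^ 12)))) = true := by decide +kernel
theorem macOK : macChk (ntOf ntlX) 12 10 macs = true := by decide +kernel
theorem sc0 : stepChk (ntOf ntlX) 12 3510 14 omB [] 1 mv0 4 = true := by decide +kernel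
theorem sc1 : stepChk (ntOf ntlX) 12 3510 14 omB [1] 2 mv1 5 = true := by decide +kernel
theorem sc2 : stepChk (ntOf ntlX) 12 3510 14 omB [2, 1] 3 mv2 4 = true := by decide +kernel
theorem sc3 : stepChk (ntOf ntlX) 12 3510 14 omB [3, 2, 1] 4 mv3 3 = true := by decide +kernel
theorem sc4 : stepChk (ntOf ntlX) 12 3510 14 omB [4, 3, 2, 1] 6 mv4 2 = true := by decide +kernel
theorem sc5 : stepChk (ntOf ntlX) 12 3510 14 omB [6, 4, 3, 2, 1] 7 mv5 1 = true := by decide +kernel
theorem sc6 : stepChk (ntOf ntlX) 12 3510 14 omB [7, 6, 4, 3, 2, 1] 9 mv6 0 = true := by decide +kernel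
theorem sc7 : stepChk2 (ntOf ntlX) 12 3510 14 omB [9, 7, 6, 4, 3, 2, 1] 8 583 mv7 1 = true := by decide +kernel
theorem sc8 : stepChk (ntOf ntlX) 12 3510 14 omB [8, 9, 7, 6, 4, 3, 2, 1] 5 mv8 0 = true := by decide +kernel

theorem uChk : [1, 2, 3, 4, 5, 6, 7, 8, 9, 12, 13].all (fun m =>
    (wordEq (ntOf ntlX) 12 (m :: uB m) (uB m ++ [1]) &&
      Nat.beq (applyWord (ntOf ntlX) (uB m) (Nat.pow 2 (omB m))) (Nat.pow 2 0))) = true := by
  decide +kernel

theorem y11 : wordEq (ntOf ntlX) 12 (List.replicate 11 11) [] = true := by decide +kernel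
theorem hp : Nat.beq (applyWord (ntOf ntlX) (uB 12) (Nat.pow 2 970)) (Nat.pow 2 0) = true := by decide +kernel
theorem hp' : Nat.beq (applyWord (ntOf ntlX) [1] (Nat.pow 2 1537)) (Nat.pow 2 970) = true := by decide +kernel
theorem hy0 : Nat.beq (applyWord (ntOf ntlX) [11] (Nat.pow 2 0)) (Nat.pow 2 0) = true := by decide +kernel
theorem hmv : Nat.beq (Nat.land (movedMask (ntOf ntlX) 12 [11]) (ivl 1 (3510 - 1))) (ivl 1 (3510 - 1)) = true := by
  decide +kernel
theorem hcert : certs.all (exChk (ntOf ntlX) 11 1 14 (uB 12) pc) = true := by decide +kernel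
theorem hcov : Nat.beq (Nat.land (ivl 1 (3510 - 1))
      (grow (ntOf ntlX) [[11]] 10 (seedMask (Nat.lor (Nat.pow 2 970) (Nat.pow 2 1537)) certs))) (ivl 1 (3510 - 1)) = true := by
  decide +kernel
theorem hfull : growChk (ntOf ntlX) [[12], [11], [1]] 13 970 0 3510 = true := by decide +kernel

end Cfsg.Agent.Lib.Helper11.Out22
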