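import Cfsg.Agent.Lib.Helper11.Out22.Tau
import Cfsg.Agent.Lib.Helper11.Out.Dict
import Cfsg.Agent.S1696
import Cfsg.Prelude.Def_KGroupFacts

/-!
# The automorphisms of `Fi22`: invariance of the class of transpositions, rigidity
-/

set_option autoImplicit false
set_option maxRecDepth 100000

namespace Cfsg.Agent.Lib.Helper11.Out22

open Cfsg.Agent.Lib.Helper11 Cfsg.Agent.Lib.Helper11.SylEA Cfsg.Agent.Lib.Helper11.Out
  Cfsg.Agent.Lib.Helper3 Cfsg.Spor Cfsg.Spor.Fi22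

local notation "gm" => gam Fi22o.psi (ntOf ntlX)

theorem hNT : ∀ l, ∀ st ∈ ntOf ntlX l, stOK (2 ^ (2 ^ 12)) st = true := ntOf_ok ntlX _ netsOK

theorem nt_eq (l : ℕ) (hl : l < 10) : ntOf Fi22o.ntl l = ntOf ntlX l := by
  unfold ntOf ntlX
  have hlen : Fi22o.ntl.length = 10 := by decide +kernel
  rw [List.getD_append _ _ _ _ (by omega)]

theorem hrange : ∀ l < 14, netPerm (ntOf ntlX l) ∈ Fi22o.psi.range := by
  have h0 : ∀ l < 10, netPerm (ntOf ntlX l) ∈ Fi22o.psi.range := by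
    intro l hl
    refine ⟨PresentedGroup.mk _ ((WExp.l l).eval (fun l => Fi22o.LTFm.getD l 1)), ?_⟩
    rw [Fi22o.psi_eval]
    show wordPerm (ntOf Fi22o.ntl) [l] = _
    rw [wordPerm_single, nt_eq l hl]
  exact macChk_spec Fi22o.psi (ntOf ntlX) 12 hNT macs 10 macOK h0

theorem hcard : Nat.card Cfsg.Spor.Fi22 = 64561751654400 := Cfsg.Agent.S1696.result.2

theorem hfaith : ∀ g : Cfsg.Spor.Fi22, (∀ p < 3510, Fi22o.psi g p = p) → g = 1 := by
  intro g hg
  have : g ∈ stabL Fi22o.psi _ := fun b hb => hg b (Fi22o.hbn b hb)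
  rw [(Fi22o.order Cfsg.Agent.S1696.card_le).2] at this
  exact Subgroup.mem_bot.1 this

theorem hinj : Function.Injective Fi22o.psi := by
  rw [injective_iff_map_eq_one]
  intro g hg
  apply hfaith
  intro p _
  rw [hg]; rfl

/-- the transposition of the point `0` -/
noncomputable def t0 : Cfsg.Spor.Fi22 :=
  PresentedGroup.mk (coxRelators edges ∪ {r | r ∈ extra})
    (Fi22o.tE.eval (fun l => Fi22o.LTFm.getD l 1))

theorem t0_sq : t0 * t0 = 1 := cox_sq edges extra .a (by decide)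

theorem dict : (∀ g : Cfsg.Spor.Fi22, Fi22o.psi g 0 = 0 ↔ g * t0 = t0 * g) ∧
    ∀ g : Cfsg.Spor.Fi22, Fi22o.psi g 0 < 3510 := by
  obtain ⟨hcard, hbot⟩ := Fi22o.order Cfsg.Agent.S1696.card_le
  exact model_dict (PresentedGroup.mk (coxRelators edges ∪ {r | r ∈ extra})) _ Fi22o.psi
    (fun l => Fi22o.LTFm.getD l 1) Fi22o.INVm (ntOf Fi22o.ntl) 12 (ntOf_ok Fi22o.ntl _ Fi22o.netsOK)
    Fi22o.psi_eval Fi22o.hExps Fi22o.hS1 Fi22o.hS2 Fi22o.gExps Fi22o.hgen 3510 _ (by norm_num)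
    Fi22a.upper Fi22o.hfix0 Fi22o.htr Fi22o.invnOK _ hbot Fi22o.hbn Fi22o.primL Fi22o.primOK
    Cfsg.Agent.S1696.perfect Fi22o.tE Fi22o.normOK Cfsg.Agent.S1696.ncl t0_sq

theorem gen_eq (m : ℕ) (h2 : m < 10) : PresentedGroup.mk (coxRelators edges ∪ {r | r ∈ extra})
    ((WExp.l m).eval (fun n => Fi22o.LTFm.getD n 1)) = gm m := by
  apply hinj
  rw [Fi22o.psi_eval, psi_gam Fi22o.psi _ m (hrange m (by omega))]
  show wordPerm (ntOf Fi22o.ntl) [m] = _
  rw [wordPerm_single, nt_eq m h2]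

theorem t0_eq : gm 1 = t0 := (gen_eq 1 (by norm_num)).symm

theorem weq (w1 w2 : List ℕ) (h1 : ∀ l ∈ w1, l < 14) (h2 : ∀ l ∈ w2, l < 14)
    (h : wordEq (ntOf ntlX) 12 w1 w2 = true) : (w1.map gm).prod = (w2.map gm).prod :=
  eq_of_wordEq Fi22o.psi hinj (ntOf ntlX) 12 hNT 14 hrange w1 w2 h1 h2 h

def okL : List ℕ := [1, 2, 3, 4, 5, 6, 7, 8, 9, 12, 13]

theorem uB_lt : ∀ m ∈ okL, m < 14 ∧ ∀ l ∈ uB m, l < 14 := by decide

theorem gm_conj' (m : ℕ) (hm : m ∈ okL) :
    gm m = ((uB m).map gm).prod * t0 * (((uB m).map gm).prod)⁻¹ ∧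
      Fi22o.psi (((uB m).map gm).prod) 0 = omB m := by
  have h := uChk
  rw [List.all_eq_true] at h
  have hm' := h m hm
  simp only [Bool.and_eq_true] at hm'
  obtain ⟨hm1, hm2⟩ := hm'
  obtain ⟨hm14, hu⟩ := uB_lt m hm
  refine ⟨?_, ?_⟩
  · have := weq (m :: uB m) (uB m ++ [1]) (by
      intro l hl
      rcases List.mem_cons.1 hl with rfl | hl
      · exact hm14
      · exact hu l hl) (by
      intro l hl
      rcases List.mem_append.1 hl with hl | hl
      · exact hu l hl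
      · simp only [List.mem_cons, List.mem_nil_iff, or_false] at hl; omega) hm1
    rw [List.map_cons, List.prod_cons, List.map_append, List.prod_append] at this
    simp only [List.map_cons, List.map_nil, List.prod_cons, List.prod_nil, mul_one] at this
    rw [t0_eq] at this
    rw [← this]; group
  · rw [psi_wd Fi22o.psi _ 14 hrange _ hu]
    exact wordPerm_valS _ _ hNT _ _ _ hm2

theorem gm_conj (m : ℕ) (hm : m ∈ okL) :
    ∃ u, gm m = u * t0 * u⁻¹ ∧ Fi22o.psi u 0 = omB m := ⟨_, gm_conj' m hm⟩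

/-! ## the centraliser of an element of order 11 -/

theorem cent (x : Cfsg.Spor.Fi22) (hx : x * gm 11 = gm 11 * x) :
    ∃ j : ℕ, (gm 11) ^ j * x = 1 ∨ (gm 11) ^ j * x = t0 :=
  cent_class Fi22o.psi t0 dict.1 (ntOf ntlX) 12 hNT 14 hrange 3510 (by norm_num) dict.2 hfaith
    11 1 12 (by norm_num) (by norm_num) (by norm_num) t0_eq 970 1537 (by norm_num) (uB 12)
    (uB_lt 12 (by decide)).2 hp hp' (gm_conj' 12 (by decide)).1 hy0 hmv pc certs hcert 10 hcov 13 hfull
    x hx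

theorem y11' : (gm 11) ^ 11 = 1 := by
  have := weq (List.replicate 11 11) [] (by decide) (by decide) y11
  rw [List.map_replicate, List.prod_replicate] at this
  simpa using this

set_option maxHeartbeats 0 in
theorem hy1 : Nat.beq (applyWord (ntOf ntlX) [11] (Nat.pow 2 208)) (Nat.pow 2 1) = true := by
  decide +kernel

theorem psi_l (l : ℕ) (hl : l < 14) : Fi22o.psi (gm l) = wordPerm (ntOf ntlX) [l] := by
  rw [wordPerm_single]; exact psi_gam Fi22o.psi _ l (hrange l hl)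

theorem y_ne : gm 11 ≠ 1 := by
  intro e
  have h1 := wordPerm_valS _ _ hNT _ _ _ hy1
  rw [← psi_l 11 (by norm_num), e] at h1
  simp at h1

theorem y_t0 : gm 11 * t0 = t0 * gm 11 := by
  apply (dict.1 _).1
  rw [psi_l 11 (by norm_num)]
  exact wordPerm_valS _ _ hNT _ _ _ hy0

theorem t0_ne : t0 ≠ 1 := by
  intro e
  have h1 := wordPerm_valS _ _ hNT _ _ _ hp'
  rw [← psi_l 1 (by norm_num), t0_eq, e] at h1
  simp at h1

theorem fac11 : (Nat.card Cfsg.Spor.Fi22).factorization 11 = 1 := by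
  rw [hcard]
  have h : (64561751654400 : ℕ) = 11 ^ 1 * 5869250150400 := by norm_num
  rw [h, Nat.factorization_mul (by norm_num) (by norm_num),
    Nat.Prime.factorization_pow (by norm_num : Nat.Prime 11)]
  have h2 : (5869250150400 : ℕ).factorization 11 = 0 :=
    Nat.factorization_eq_zero_of_not_dvd (by norm_num)
  simp [h2]

/-- an automorphism can be corrected by an inner one so as to normalise a Sylow subgroup -/
theorem sylow_fix_p {G : Type*} [Group G] [Finite G] (p : ℕ) [Fact p.Prime] (N : ℕ) (T0 : Subgroup G)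
    (hT0 : Nat.card T0 = p ^ N) (hG : (Nat.card G).factorization p = N) (α : MulAut G) :
    ∃ g : G, (∀ y ∈ T0, g * α y * g⁻¹ ∈ T0) ∧ ∀ y ∈ T0, ∃ y' ∈ T0, y = g * α y' * g⁻¹ := by
  obtain ⟨P0, hP0⟩ := (IsPGroup.of_card hT0).exists_le_sylow
  have hc : ∀ P : Sylow p G, Nat.card (P : Subgroup G) = p ^ N := fun P => by
    rw [Sylow.card_eq_multiplicity, hG]
  have hTP : T0 = P0 := Subgroup.eq_of_le_of_card_ge hP0 (by rw [hc, hT0])
  have hcα : Nat.card (T0.map α.toMonoidHom) = p ^ N := by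
    rw [Subgroup.card_map_of_injective α.injective, hT0]
  obtain ⟨P1, hP1⟩ := (IsPGroup.of_card hcα).exists_le_sylow
  have hTP1 : T0.map α.toMonoidHom = P1 := Subgroup.eq_of_le_of_card_ge hP1 (by rw [hc, hcα])
  obtain ⟨g, hg⟩ := MulAction.exists_smul_eq G P1 P0
  have hT : T0 = (T0.map α.toMonoidHom).map (MulAut.conj g).toMonoidHom := by
    rw [hTP1]
    conv_lhs => rw [hTP, ← hg, Sylow.coe_subgroup_smul]
    rfl
  refine ⟨g, ?_, ?_⟩
  · intro y hy
    rw [hT]
    exact ⟨α y, ⟨y, hy, rfl⟩, rfl⟩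
  · intro y hy
    rw [hT] at hy
    obtain ⟨_, ⟨y', hy', rfl⟩, rfl⟩ := hy
    exact ⟨y', hy', rfl⟩

theorem eq_one_of_sq_of_pow11 {G : Type*} [Group G] (a : G) (h2 : a * a = 1) (h11 : a ^ 11 = 1) :
    a = 1 := by
  have h : a ^ 11 = a * (a * a) ^ 5 := by
    rw [← pow_two, ← pow_mul, ← pow_succ']
  rw [h2, one_pow, mul_one] at h
  rw [← h, h11]

theorem aut_t0 (α : MulAut Cfsg.Spor.Fi22) : ∃ g, α t0 = g * t0 * g⁻¹ := by
  haveI : Finite Cfsg.Spor.Fi22 := Nat.finite_of_card_ne_zero Cfsg.Agent.S1696.card_le.1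
  haveI : Fact (Nat.Prime 11) := ⟨by norm_num⟩
  set Y := gm 11 with hY
  have hord : orderOf Y = 11 := orderOf_eq_prime y11' y_ne
  obtain ⟨g, _, hg2⟩ := sylow_fix_p 11 1 (Subgroup.zpowers Y)
    (by rw [Nat.card_zpowers, hord, pow_one]) fac11 α
  obtain ⟨y', hy', hYy⟩ := hg2 Y (Subgroup.mem_zpowers Y)
  obtain ⟨k, rfl⟩ := Subgroup.mem_zpowers_iff.1 hy'
  set x := g * α t0 * g⁻¹ with hx
  have hc1 : t0 * Y ^ k = Y ^ k * t0 :=
    (Commute.zpow_right (show Commute t0 Y from y_t0.symm) k).eq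
  have hxY : x * Y = Y * x := by
    have h1 : α t0 * α (Y ^ k) = α (Y ^ k) * α t0 := by rw [← map_mul, ← map_mul, hc1]
    calc x * Y = g * (α t0 * α (Y ^ k)) * g⁻¹ := by
          conv_lhs => rw [hYy, hx]
          group
      _ = g * (α (Y ^ k) * α t0) * g⁻¹ := by rw [h1]
      _ = Y * x := by
          conv_rhs => rw [hYy, hx]
          group
  have hxx : x * x = 1 := by
    calc x * x = g * α (t0 * t0) * g⁻¹ := by rw [hx, map_mul]; group
      _ = 1 := by rw [t0_sq, map_one]; group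
  have hx1 : x ≠ 1 := by
    intro e
    apply t0_ne
    apply α.injective
    rw [map_one]
    calc α t0 = g⁻¹ * x * g := by rw [hx]; group
      _ = 1 := by rw [e]; group
  obtain ⟨j, hj⟩ := cent x hxY
  set a := Y ^ j with ha
  have hax : a * x = x * a := ((Commute.pow_right (show Commute x Y from hxY) j).eq).symm
  have ha2 : a * a = 1 := by
    have h1 : (a * x) * (a * x) = a * a := by
      calc (a * x) * (a * x) = a * (x * a) * x := by group
        _ = a * (a * x) * x := by rw [hax]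
        _ = a * a * (x * x) := by group
        _ = a * a := by rw [hxx, mul_one]
    rcases hj with hj | hj
    · rw [← h1, hj, mul_one]
    · rw [← h1, hj, t0_sq]
  have ha11 : a ^ 11 = 1 := by rw [ha, ← pow_mul, mul_comm, pow_mul, y11', one_pow]
  have ha1 : a = 1 := eq_one_of_sq_of_pow11 a ha2 ha11
  rw [ha1, one_mul] at hj
  rcases hj with hj | hj
  · exact absurd hj hx1
  · refine ⟨g⁻¹, ?_⟩
    have h5 : α t0 = g⁻¹ * x * g := by rw [hx]; group
    rw [h5, hj, inv_inv]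

theorem hD (β : MulAut Cfsg.Spor.Fi22) (m : ℕ) (hm : m ∈ okL) : ∃ g, β (gm m) = g * t0 * g⁻¹ := by
  obtain ⟨u, hu, _⟩ := gm_conj m hm
  obtain ⟨g, hg⟩ := aut_t0 β
  exact ⟨β u * g, by rw [hu, map_mul, map_mul, map_inv, hg]; group⟩

end Cfsg.Agent.Lib.Helper11.Out22
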