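import Cfsg.Agent.Lib.Helper11.Out22.Main

/-!
# The outer automorphism group of `Fi22` has order 2
-/

set_option autoImplicit false
set_option maxRecDepth 100000

namespace Cfsg.Agent.Lib.Helper11.Out22

open Cfsg.Agent.Lib.Helper11 Cfsg.Agent.Lib.Helper11.SylEA Cfsg.Agent.Lib.Helper11.Out
  Cfsg.Agent.Lib.Helper3 Cfsg.Spor Cfsg.Spor.Fi22

local notation "gm" => gam Fi22o.psi (ntOf ntlX)

theorem gm_ne (β : MulAut Cfsg.Spor.Fi22) (m nw : ℕ) (hm : m ∈ okL) (hn : nw ∈ okL)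
    (h : omB nw ≠ omB m) : β (gm nw) ≠ β (gm m) := by
  intro e
  have e' : gm nw = gm m := β.injective e
  obtain ⟨u, hu, hu0⟩ := gm_conj nw hn
  obtain ⟨u', hu', hu0'⟩ := gm_conj m hm
  rw [hu, hu'] at e'
  have := (conj_eq_iff Fi22o.psi t0 dict.1 u u').1 e'
  rw [hu0, hu0'] at this
  exact h this

theorem ext1 (β : MulAut Cfsg.Spor.Fi22)
    (prev : List ℕ) (nw : ℕ) (moves : List (List ℕ)) (r : ℕ)
    (hp : ∀ m ∈ prev, m ∈ okL ∧ omB nw ≠ omB m) (hn : nw ∈ okL)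
    (hchk : stepChk (ntOf ntlX) 12 3510 14 omB prev nw moves r = true)
    (hP : ∃ g, ∀ m ∈ prev, g * β (gm m) * g⁻¹ = gm m) :
    ∃ g, ∀ m ∈ nw :: prev, g * β (gm m) * g⁻¹ = gm m :=
  extend Fi22o.psi t0 dict.1 (ntOf ntlX) 12 hNT 14 hrange 3510 (by norm_num) dict.2
    omB (fun m => β (gm m)) prev nw moves r
    (fun m hm => ⟨(uB_lt m (hp m hm).1).1, gm_conj m (hp m hm).1⟩)
    (gm_conj nw hn) hchk hP (hD β nw hn)
    (fun m hm => by
      show β (gm m) * β (gm nw) = β (gm nw) * β (gm m) ↔ _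
      rw [← map_mul, ← map_mul]; exact β.injective.eq_iff)
    (fun m hm => gm_ne β m nw (hp m hm).1 hn (hp m hm).2)

theorem head (β : MulAut Cfsg.Spor.Fi22) :
    ∃ g, (∀ m ∈ [9, 7, 6, 4, 3, 2, 1], g * β (gm m) * g⁻¹ = gm m) ∧
      (g * β (gm 8) * g⁻¹ = gm 8 ∨ g * β (gm 8) * g⁻¹ = gm 13) := by
  have h0 := ext1 β [] 1 mv0 4 (by decide) (by decide) sc0 ⟨1, by simp⟩
  have h1 := ext1 β _ 2 mv1 5 (by decide) (by decide) sc1 h0
  have h2 := ext1 β _ 3 mv2 4 (by decide) (by decide) sc2 h1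
  have h3 := ext1 β _ 4 mv3 3 (by decide) (by decide) sc3 h2
  have h4 := ext1 β _ 6 mv4 2 (by decide) (by decide) sc4 h3
  have h5 := ext1 β _ 7 mv5 1 (by decide) (by decide) sc5 h4
  have h6 := ext1 β _ 9 mv6 0 (by decide) (by decide) sc6 h5
  have hp : ∀ m ∈ [9, 7, 6, 4, 3, 2, 1], m ∈ okL ∧ omB 8 ≠ omB m := by decide
  exact extend2 Fi22o.psi t0 dict.1 (ntOf ntlX) 12 hNT 14 hrange 3510 (by norm_num) dict.2
    omB (fun m => β (gm m)) [9, 7, 6, 4, 3, 2, 1] 8 583 mv7 1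
    (fun m hm => ⟨(uB_lt m (hp m hm).1).1, gm_conj m (hp m hm).1⟩)
    (gm_conj 8 (by decide)) (gm 13) (gm_conj 13 (by decide)) sc7 h6 (hD β 8 (by decide))
    (fun m hm => by
      show β (gm m) * β (gm 8) = β (gm 8) * β (gm m) ↔ _
      rw [← map_mul, ← map_mul]; exact β.injective.eq_iff)
    (fun m hm => gm_ne β m 8 (hp m hm).1 (by decide) (hp m hm).2)

theorem gm_gen (e : WExp) (he : e ∈ Fi22o.gExps) : ∃ m, 1 ≤ m ∧ m ≤ 9 ∧
    PresentedGroup.mk (coxRelators edges ∪ {r | r ∈ extra})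
      (e.eval (fun n => Fi22o.LTFm.getD n 1)) = gm m := by
  simp only [Fi22o.gExps, List.mem_cons, List.mem_nil_iff, or_false] at he
  rcases he with rfl | rfl | rfl | rfl | rfl | rfl | rfl | rfl | rfl
  · exact ⟨1, by norm_num, by norm_num, gen_eq 1 (by norm_num)⟩
  · exact ⟨2, by norm_num, by norm_num, gen_eq 2 (by norm_num)⟩
  · exact ⟨3, by norm_num, by norm_num, gen_eq 3 (by norm_num)⟩
  · exact ⟨4, by norm_num, by norm_num, gen_eq 4 (by norm_num)⟩
  · exact ⟨5, by norm_num, by norm_num, gen_eq 5 (by norm_num)⟩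
  · exact ⟨6, by norm_num, by norm_num, gen_eq 6 (by norm_num)⟩
  · exact ⟨7, by norm_num, by norm_num, gen_eq 7 (by norm_num)⟩
  · exact ⟨8, by norm_num, by norm_num, gen_eq 8 (by norm_num)⟩
  · exact ⟨9, by norm_num, by norm_num, gen_eq 9 (by norm_num)⟩

theorem tail (β : MulAut Cfsg.Spor.Fi22)
    (h : ∃ g, ∀ m ∈ [8, 9, 7, 6, 4, 3, 2, 1], g * β (gm m) * g⁻¹ = gm m) :
    β ∈ Cfsg.Inn Cfsg.Spor.Fi22 := by
  obtain ⟨g, hg⟩ := ext1 β _ 5 mv8 0 (by decide) (by decide) sc8 h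
  refine ⟨g⁻¹, ?_⟩
  apply MulEquiv.toMonoidHom_injective
  apply MonoidHom.eq_of_eqOn_dense Fi22o.hgenTop
  rintro _ ⟨e, he, rfl⟩
  obtain ⟨m, h1, h2, hm⟩ := gm_gen e he
  rw [hm]
  show g⁻¹ * gm m * g⁻¹⁻¹ = β (gm m)
  conv_lhs => rw [← hg m (by interval_cases m <;> simp)]
  group

/-! ## the outer automorphism -/

/-- the letters of the images of the generators -/
def codeT : Gen → ℕ
  | .a => 1 | .b => 2 | .c => 3 | .d => 4 | .e => 5 | .f => 6 | .g => 7 | .h => 13 | .i => 9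

theorem codeT_lt (x : Gen) : codeT x < 14 := by cases x <;> decide

theorem ntT (x : Gen) : ntOf ntlT (Fi22a.code x) = ntOf ntlX (codeT x) := by cases x <;> rfl

theorem hf : ∀ r ∈ coxRelators edges ∪ {r | r ∈ extra},
    FreeGroup.lift (fun x => gm (codeT x)) r = 1 := by
  intro r hr
  apply hinj
  rw [map_one, ← hrelsT r hr]
  have : Fi22o.psi.comp (FreeGroup.lift (fun x => gm (codeT x))) =
      FreeGroup.lift (fun x => netPerm (ntOf ntlT (Fi22a.code x))) := by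
    ext x
    simp only [MonoidHom.comp_apply, FreeGroup.lift_apply_of]
    rw [psi_gam Fi22o.psi _ _ (hrange _ (codeT_lt x)), ntT]
  exact DFunLike.congr_fun this r

noncomputable def tau0 : Cfsg.Spor.Fi22 →* Cfsg.Spor.Fi22 :=
  PresentedGroup.toGroup (f := fun x => gm (codeT x)) hf

theorem of_eq (x : Gen) : (PresentedGroup.of x : Cfsg.Spor.Fi22) = gm (Fi22a.code x) := by
  cases x
  · exact gen_eq 1 (by norm_num)
  · exact gen_eq 2 (by norm_num)
  · exact gen_eq 3 (by norm_num)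
  · exact gen_eq 4 (by norm_num)
  · exact gen_eq 5 (by norm_num)
  · exact gen_eq 6 (by norm_num)
  · exact gen_eq 7 (by norm_num)
  · exact gen_eq 8 (by norm_num)
  · exact gen_eq 9 (by norm_num)

theorem tau0_gen (x : Gen) : tau0 (gm (Fi22a.code x)) = gm (codeT x) := by
  rw [← of_eq x]
  exact PresentedGroup.toGroup.of hf

theorem tau0_bij : Function.Bijective tau0 := by
  haveI : Finite Cfsg.Spor.Fi22 := Nat.finite_of_card_ne_zero Cfsg.Agent.S1696.card_le.1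
  haveI : IsSimpleGroup Cfsg.Spor.Fi22 := Cfsg.Agent.S1696.result.1
  have hker : tau0.ker = ⊥ := by
    rcases tau0.normal_ker.eq_bot_or_eq_top with h | h
    · exact h
    · exfalso
      have h1 : gm 1 ∈ tau0.ker := by rw [h]; exact Subgroup.mem_top _
      rw [MonoidHom.mem_ker] at h1
      have h2 := tau0_gen .a
      have h3 : tau0 (gm 1) = gm 1 := h2
      rw [h1, t0_eq] at h3
      exact t0_ne h3.symm
  have hi : Function.Injective tau0 := (MonoidHom.ker_eq_bot_iff tau0).1 hker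
  exact ⟨hi, Finite.surjective_of_injective hi⟩

noncomputable def tau : MulAut Cfsg.Spor.Fi22 := MulEquiv.ofBijective tau0 tau0_bij

theorem tau_fix (m : ℕ) (hm : m ∈ [9, 7, 6, 5, 4, 3, 2, 1]) : tau (gm m) = gm m := by
  simp only [List.mem_cons, List.mem_nil_iff, or_false] at hm
  rcases hm with rfl | rfl | rfl | rfl | rfl | rfl | rfl | rfl
  · exact tau0_gen .i
  · exact tau0_gen .g
  · exact tau0_gen .f
  · exact tau0_gen .e
  · exact tau0_gen .d
  · exact tau0_gen .c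
  · exact tau0_gen .b
  · exact tau0_gen .a

theorem tau_h : tau (gm 8) = gm 13 := tau0_gen .h

end Cfsg.Agent.Lib.Helper11.Out22
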