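import Cfsg.Agent.Lib.Helper11.Out22.Main2

/-!
# The outer automorphism group of `Fi22` has order 2: conclusion
-/

set_option autoImplicit false
set_option maxRecDepth 100000

namespace Cfsg.Agent.Lib.Helper11.Out22

open Cfsg.Agent.Lib.Helper11 Cfsg.Agent.Lib.Helper11.SylEA Cfsg.Agent.Lib.Helper11.Out
  Cfsg.Agent.Lib.Helper3 Cfsg.Spor Cfsg.Spor.Fi22

local notation "gm" => gam Fi22o.psi (ntOf ntlX)

theorem hNTb : ∀ l, ∀ st ∈ ntOf Fi22b.ntl l, stOK (2 ^ (2 ^ 14)) st = true :=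
  ntOf_ok Fi22b.ntl _ Fi22b.netsOK

theorem psiB_l (l : ℕ) (h1 : l < 10) : Fi22b.psi (gm l) = netPerm (ntOf Fi22b.ntl l) := by
  rw [← gen_eq l h1]
  exact (Fi22b.psi_eval (.l l)).trans (wordPerm_single _ _)

theorem psiB_w (w : List ℕ) (hw : ∀ l ∈ w, l < 10) :
    Fi22b.psi ((w.map gm).prod) = wordPerm (ntOf Fi22b.ntl) w := by
  rw [map_list_prod, List.map_map]
  unfold wordPerm
  congr 1
  apply List.map_congr_left
  intro l hl
  exact psiB_l l (hw l hl)

theorem hTB : ∀ t ∈ {t : Cfsg.Spor.Fi22 | ∃ e ∈ Fi22b.gExps, t =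
      PresentedGroup.mk (coxRelators edges ∪ {r | r ∈ extra})
        (e.eval (fun n => Fi22b.LTFm.getD n 1))},
    ∃ w ∈ Fi22b.gExps.map (fun e => e.letters Fi22b.INVm),
      Fi22b.psi t = wordPerm (ntOf Fi22b.ntl) w := by
  rintro _ ⟨e, he, rfl⟩
  exact ⟨_, List.mem_map_of_mem he, Fi22b.psi_eval e⟩

theorem hgenB (g : Cfsg.Spor.Fi22) : g ∈ Subgroup.closure {t : Cfsg.Spor.Fi22 | ∃ e ∈ Fi22b.gExps, t =
      PresentedGroup.mk (coxRelators edges ∪ {r | r ∈ extra})
        (e.eval (fun n => Fi22b.LTFm.getD n 1))} := Fi22o.hgen g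

theorem hltB (g : Cfsg.Spor.Fi22) : Fi22b.psi g 0 < 14080 := by
  have key := inv_of_bits Fi22b.psi _ _ (ntOf Fi22b.ntl) hNTb _ hTB 0 14080 invnB g (hgenB g) 0
  have h2 := key.2 ⟨le_refl _, by norm_num⟩
  omega

theorem movedAny_spec (NT : ℕ → List (ℕ × ℕ)) (kk : ℕ)
    (hNT : ∀ l, ∀ st ∈ NT l, stOK (2 ^ (2 ^ kk)) st = true) (z : ℕ) (hz : z < 2 ^ kk) :
    ∀ ws : List (List ℕ), (movedAny NT kk ws).testBit z = true → ∃ w ∈ ws, wordPerm NT w z ≠ z
  | [], h => by simp [movedAny] at h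
  | w :: ws, h => by
    have h' : (movedMask NT kk w ||| movedAny NT kk ws).testBit z = true := h
    rw [Nat.testBit_or, Bool.or_eq_true] at h'
    rcases h' with h' | h'
    · exact ⟨w, List.mem_cons_self, (movedMask_spec NT kk hNT w z hz).1 h'⟩
    · obtain ⟨w', hw', e⟩ := movedAny_spec NT kk hNT z hz ws h'
      exact ⟨w', List.mem_cons_of_mem _ hw', e⟩

theorem gm13 : gm 13 = (HW.map gm).prod := by
  have := weq [13] HW (by decide) (by decide) hHW
  simpa using this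

theorem tau_not_inn : tau ∉ Cfsg.Inn Cfsg.Spor.Fi22 := by
  rintro ⟨g, hg⟩
  have hc : ∀ x, g * x * g⁻¹ = tau x := fun x => by rw [← hg]; rfl
  set r := Fi22b.psi g 0 with hr
  have hr' : r < 14080 := hltB g
  have h0 : ∀ l ∈ [2, 3, 4, 5, 6, 7, 8, 9], Fi22b.psi (gm l) 0 = 0 := by
    intro l hl
    have h := fix0B
    rw [List.all_eq_true] at h
    rw [psiB_l l (by revert l; decide), ← wordPerm_single]
    exact wordPerm_valS _ _ hNTb _ _ _ (h l hl)
  have hmove : ∀ a b : Cfsg.Spor.Fi22, g * b * g⁻¹ = a → Fi22b.psi b 0 = 0 → Fi22b.psi a r = r := by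
    intro a b hab hb
    have e : a * g = g * b := by rw [← hab]; group
    rw [hr, ← Equiv.Perm.mul_apply, ← map_mul, e, map_mul, Equiv.Perm.mul_apply, hb]
  have hfixl : ∀ l ∈ [2, 3, 4, 5, 6, 7, 9], Fi22b.psi (gm l) r = r := by
    intro l hl
    apply hmove (gm l) (gm l)
    · rw [hc, tau_fix l (by revert l; decide)]
    · exact h0 l (by revert l; decide)
  have hfixh : Fi22b.psi (gm 13) r = r := by
    apply hmove (gm 13) (gm 8)
    · rw [hc, tau_h]
    · exact h0 8 (by decide)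
  have h1 : ivl 0 14080 &&& movedAny (ntOf Fi22b.ntl) 14 [[2], [3], [4], [5], [6], [7], [9], HW] =
      ivl 0 14080 := Nat.eq_of_beq_eq_true noFix
  have h2 : (ivl 0 14080).testBit r = true := (ivl_testBit 0 14080 r).2 ⟨Nat.zero_le _, by omega⟩
  have h3 := congrArg (fun M => Nat.testBit M r) h1
  simp only [Nat.testBit_and, h2, Bool.true_and] at h3
  obtain ⟨w, hw, hne⟩ := movedAny_spec _ 14 hNTb r (by omega) _ h3
  apply hne
  simp only [List.mem_cons, List.mem_nil_iff, or_false] at hw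
  have hs : ∀ l ∈ [2, 3, 4, 5, 6, 7, 9], wordPerm (ntOf Fi22b.ntl) [l] r = r := by
    intro l hl
    rw [wordPerm_single, ← psiB_l l (by revert l; decide)]
    exact hfixl l hl
  rcases hw with rfl | rfl | rfl | rfl | rfl | rfl | rfl | rfl
  · exact hs 2 (by decide)
  · exact hs 3 (by decide)
  · exact hs 4 (by decide)
  · exact hs 5 (by decide)
  · exact hs 6 (by decide)
  · exact hs 7 (by decide)
  · exact hs 9 (by decide)
  · rw [← psiB_w HW (by decide), ← gm13]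
    exact hfixh

theorem dich (β : MulAut Cfsg.Spor.Fi22) :
    β ∈ Cfsg.Inn Cfsg.Spor.Fi22 ∨ tau⁻¹ * β ∈ Cfsg.Inn Cfsg.Spor.Fi22 := by
  obtain ⟨g, hg, h8⟩ := head β
  rcases h8 with h8 | h8
  · left
    apply tail β ⟨g, ?_⟩
    intro m hm
    rcases List.mem_cons.1 hm with rfl | hm
    · exact h8
    · exact hg m hm
  · right
    have hβ' : tau⁻¹ * (MulAut.conj g * β) ∈ Cfsg.Inn Cfsg.Spor.Fi22 := by
      apply tail _ ⟨1, ?_⟩
      intro m hm
      have : (tau⁻¹ * (MulAut.conj g * β)) (gm m) = gm m := by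
        show tau.symm (g * β (gm m) * g⁻¹) = gm m
        rcases List.mem_cons.1 hm with rfl | hm
        · rw [h8, ← tau_h]; exact tau.symm_apply_apply _
        · rw [hg m hm]
          conv_lhs => rw [← tau_fix m (by revert m; decide)]
          exact tau.symm_apply_apply _
      rw [this]; group
    have hc : (MulAut.conj g)⁻¹ ∈ Cfsg.Inn Cfsg.Spor.Fi22 := Subgroup.inv_mem _ ⟨g, rfl⟩
    have h1 := (Cfsg.innNormal Cfsg.Spor.Fi22).conj_mem _ hc tau⁻¹
    have e : tau⁻¹ * β = (tau⁻¹ * (MulAut.conj g)⁻¹ * tau⁻¹⁻¹) * (tau⁻¹ * (MulAut.conj g * β)) := by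
      group
    rw [e]
    exact Subgroup.mul_mem _ h1 hβ'

theorem card_out : Nat.card (Cfsg.Out Cfsg.Spor.Fi22) = 2 := by
  rw [Nat.card_eq_two_iff]
  refine ⟨1, QuotientGroup.mk tau, ?_, ?_⟩
  · intro e
    exact tau_not_inn ((QuotientGroup.eq_one_iff tau).1 e.symm)
  · ext q
    simp only [Set.mem_insert_iff, Set.mem_singleton_iff, Set.mem_univ, iff_true]
    obtain ⟨β, rfl⟩ := QuotientGroup.mk_surjective q
    rcases dich β with h | h
    · left; exact (QuotientGroup.eq_one_iff β).2 h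
    · right; exact (QuotientGroup.eq.2 h).symm

end Cfsg.Agent.Lib.Helper11.Out22
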