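import Cfsg.Agent.Lib.Helper11.Out22.Chk
import Cfsg.Agent.Lib.Helper11.CoxModel
import Cfsg.Agent.Lib.Helper11.Fi22b.Model

set_option autoImplicit false
set_option maxRecDepth 100000

namespace Cfsg.Agent.Lib.Helper11.Out22

open Cfsg.Agent.Lib.Helper11 Cfsg.Agent.Lib.Helper11.SylEA Cfsg.Agent.Lib.Helper11.Out
open Cfsg.Spor Cfsg.Spor.Fi22 Cfsg.Agent.Lib.Helper11.Fi22a

set_option maxHeartbeats 0

/-- the networks of the generators, with that of `h` replaced -/
noncomputable def ntlT : List (List (ℕ × ℕ)) :=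
  [[], ntOf ntlX 1, ntOf ntlX 2, ntOf ntlX 3, ntOf ntlX 4, ntOf ntlX 5, ntOf ntlX 6, ntOf ntlX 7,
    ntOf ntlX 13, ntOf ntlX 9]

theorem netsOKT : ntlT.all (fun net => net.all (stOK (2 ^ (2 ^ 12)))) = true := by decide +kernel
theorem idOKT : (baseWords edges code nodes Fi22o.INVm 9 extraE []).all (wordId (ntOf ntlT) 12) = true := by
  decide +kernel
theorem hwordsT : ∀ r ∈ baseWords edges code nodes Fi22o.INVm 9 extraE [],
    (r.map fun l => netPerm (ntOf ntlT l)).prod = 1 :=
  model_words edges code nodes Fi22o.INVm 9 extraE ntlT 12 netsOKT idOKT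
theorem hinvNT : ∀ l, netPerm (ntOf ntlT (invL Fi22o.INVm l)) = (netPerm (ntOf ntlT l))⁻¹ :=
  model_inv edges code nodes Fi22o.INVm 9 extraE ntlT hwordsT rfl rfl (by norm_num)
  (by decide +kernel) (by decide +kernel)
theorem hLTFT : ∀ l, FreeGroup.lift (fun x => netPerm (ntOf ntlT (code x))) (Fi22o.LTFm.getD l 1) =
      netPerm (ntOf ntlT l) := by
  apply hLTF_of Fi22o.LTFm code 9 ntlT rfl rfl
  intro l hl
  interval_cases l
  · exact (map_one _).trans netPerm_nil.symm
  · exact FreeGroup.lift_apply_of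
  · exact FreeGroup.lift_apply_of
  · exact FreeGroup.lift_apply_of
  · exact FreeGroup.lift_apply_of
  · exact FreeGroup.lift_apply_of
  · exact FreeGroup.lift_apply_of
  · exact FreeGroup.lift_apply_of
  · exact FreeGroup.lift_apply_of
  · exact FreeGroup.lift_apply_of
theorem hrelsT : ∀ r ∈ coxRelators edges ∪ {r | r ∈ extra},
    FreeGroup.lift (fun x => netPerm (ntOf ntlT (code x))) r = 1 :=
  model_rels edges extra Fi22o.LTFm code nodes Fi22o.INVm 9 extraE ntlT hwordsT hinvNT (by decide)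
  (by
    intro r hr
    have : extraE.map (fun e => e.eval (fun l => Fi22o.LTFm.getD l 1)) = extra := rfl
    rw [← this] at hr
    obtain ⟨e, he, h⟩ := List.mem_map.1 hr
    exact ⟨e, he, h⟩) hLTFT

/-- the word of the new generator -/
def HW : List ℕ := [4, 5, 6, 3, 4, 5, 2, 3, 4, 8, 7, 6, 5, 4, 3, 2, 1, 2, 3, 4, 5, 6, 7, 8, 4, 3, 2, 5, 4, 3, 6, 5, 4]

theorem hHW : wordEq (ntOf ntlX) 12 [13] HW = true := by decide +kernel

/-- the points moved by one of the words -/
noncomputable def movedAny (NT : ℕ → List (ℕ × ℕ)) (kk : ℕ) : List (List ℕ) → ℕ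
  | [] => 0
  | w :: ws => Nat.lor (movedMask NT kk w) (movedAny NT kk ws)

theorem invnB : fixChk (ntOf Fi22b.ntl) (Fi22b.gExps.map (fun e => e.letters Fi22b.INVm)) 0 14080 = true := by
  decide +kernel

theorem noFix : Nat.beq (Nat.land (ivl 0 14080)
    (movedAny (ntOf Fi22b.ntl) 14 [[2], [3], [4], [5], [6], [7], [9], HW])) (ivl 0 14080) = true := by
  decide +kernel

theorem fix0B : [2, 3, 4, 5, 6, 7, 8, 9].all (fun l =>
    Nat.beq (applyWord (ntOf Fi22b.ntl) [l] (Nat.pow 2 0)) (Nat.pow 2 0)) = true := by decide +kernel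

end Cfsg.Agent.Lib.Helper11.Out22
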